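import Groth.Agent.H26Tame.Wild
import Groth.Agent.H7Flat.FlatTransfer
import Mathlib

/-!
# Kummer characters of a strictly henselian trait
-/

set_option autoImplicit false

universe u v

open IsLocalRing Polynomial

namespace Groth.Agent.H26Tame

variable {R : Type u} [CommRing R] [IsDomain R] [IsDiscreteValuationRing R] [HenselianLocalRing R]
  [IsSepClosed (ResidueField R)] {K : Type u} [Field K] [Algebra R K] [IsFractionRing R K]

omit [IsDomain R] [IsDiscreteValuationRing R] in
theorem exists_primitiveRoot {n : ℕ} [NeZero n] (hn : IsUnit (n : ResidueField R)) : ∃ ζ : R, IsPrimitiveRoot ζ n := by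
  haveI : NeZero (n : ResidueField R) := ⟨hn.ne_zero⟩
  obtain ⟨z, hz⟩ := HasEnoughRootsOfUnity.exists_primitiveRoot (ResidueField R) n
  obtain ⟨w₀, rfl⟩ := residue_surjective z
  have hw₀ : IsUnit w₀ := (residue_ne_zero_iff_isUnit _).mp (hz.ne_zero (NeZero.ne n))
  have hnR : IsUnit (n : R) := (residue_ne_zero_iff_isUnit _).mp (by rw [map_natCast]; exact hn.ne_zero)
  obtain ⟨w, hw, hww⟩ := HenselianLocalRing.is_henselian (X ^ n - C (1 : R)) (monic_X_pow_sub_C 1 (NeZero.ne n)) w₀
    (by rw [← residue_eq_zero_iff]; simp [hz.pow_eq_one])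
    (by simpa [derivative_X_pow] using hnR.mul (hw₀.pow (n - 1)))
  refine ⟨w, by simpa [IsRoot, sub_eq_zero] using hw, fun l hl => hz.dvd_of_pow_eq_one l ?_⟩
  have : residue R w = residue R w₀ := by rw [← sub_eq_zero, ← map_sub]; exact (residue_eq_zero_iff _).mpr hww
  rw [← this, ← map_pow, hl, map_one]

/-- Every automorphism of a finite Galois extension fixing a root of a uniformizer is a product of two `r`-th powers. -/
theorem exists_pow_mul_pow_of_galois {E : Type u} [Field E] [Algebra K E] [FiniteDimensional K E] [IsGalois K E]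
    {r : ℕ} [NeZero r] (hr : IsUnit (r : ResidueField R)) {ζ : R} (hζ : IsPrimitiveRoot ζ r) {ρ : E} (hρ0 : ρ ≠ 0)
    {c : K} (hρ : ρ ^ r = algebraMap K E c) {g₁ : E ≃ₐ[K] E}
    (hg₁ : g₁ ρ = algebraMap K E (algebraMap R K ζ) * ρ)
    {h : E ≃ₐ[K] E} (hh : h ρ = ρ) : ∃ x y : E ≃ₐ[K] E, x ^ r * y ^ r = h := by
  letI := ((algebraMap K E).comp (algebraMap R K)).toAlgebra
  haveI : IsScalarTower R K E := .of_algebraMap_eq fun _ => rfl
  let B := integralClosure R E
  haveI : IsFractionRing B E := IsIntegralClosure.isFractionRing_of_finite_extension R K E B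
  haveI : IsDedekindDomain B := IsIntegralClosure.isDedekindDomain R K E B
  haveI : IsLocalRing B := H7Flat.FlatTransfer.isLocalRing_integralClosure R E
  haveI : Algebra.IsIntegral R B := IsIntegralClosure.isIntegral_algebra R E
  have hinj : Function.Injective (algebraMap R B) := fun a b hab => by
    have := congrArg (algebraMap B E) hab
    rw [← IsScalarTower.algebraMap_apply, ← IsScalarTower.algebraMap_apply, IsScalarTower.algebraMap_apply R K E,
      IsScalarTower.algebraMap_apply R K E] at this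
    exact IsFractionRing.injective R K ((algebraMap K E).injective this)
  haveI : FaithfulSMul R B := (faithfulSMul_iff_algebraMap_injective R B).2 hinj
  have hnf : ¬ IsField B := fun hf => IsDiscreteValuationRing.not_isField R (isField_of_isIntegral_of_isField hinj hf)
  haveI : IsDiscreteValuationRing B :=
    { not_a_field' := fun h => hnf ((IsLocalRing.isField_iff_maximalIdeal_eq).2 h) }
  haveI : IsLocalHom (algebraMap R B) := RingHom.IsIntegral.isLocalHom (Algebra.IsIntegral.isIntegral) hinj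
  have hrB : IsUnit (r : B) := by
    rw [← map_natCast (algebraMap R B)]
    exact ((residue_ne_zero_iff_isUnit _).mp (by rw [map_natCast]; exact hr.ne_zero)).map _
  haveI : Algebra.IsAlgebraic (ResidueField R) (ResidueField B) := ⟨fun x => by
    obtain ⟨b, rfl⟩ := residue_surjective x
    exact ((Algebra.IsIntegral.isIntegral (R := R) b).map (IsScalarTower.toAlgHom R B (ResidueField B))).tower_top.isAlgebraic⟩
  let a : (E ≃ₐ[K] E) →* (B ≃+* B) :=
    { toFun := fun g => (galRestrict R K E B g).toRingEquiv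
      map_one' := by rw [map_one]; rfl
      map_mul' := fun g g' => by rw [map_mul]; rfl }
  have ha : Function.Injective a := fun g g' hgg => (galRestrict R K E B).injective
    (AlgEquiv.ext fun b => congr($hgg b))
  have hres : ∀ g b, a g b - b ∈ maximalIdeal B := fun g b => by
    obtain ⟨n, z, hz⟩ := IsPurelyInseparable.pow_mem (ResidueField R) (ringExpChar (ResidueField R)) (residue B b)
    obtain ⟨r₀, rfl⟩ := residue_surjective z
    haveI : ExpChar (ResidueField B) (ringExpChar (ResidueField R)) :=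
      expChar_of_injective_ringHom (algebraMap (ResidueField R) (ResidueField B)).injective _
    set q := ringExpChar (ResidueField R) ^ n
    have h1 : b ^ q - algebraMap R B r₀ ∈ maximalIdeal B := by
      rw [← residue_eq_zero_iff, map_sub, map_pow, ← hz, sub_eq_zero]
      rfl
    have h2 : a g (b ^ q - algebraMap R B r₀) ∈ maximalIdeal B := by
      rw [mem_maximalIdeal, mem_nonunits_iff] at h1 ⊢
      exact fun hu => h1 ((MulEquiv.isUnit_map (a g)).1 hu)
    rw [map_sub, map_pow, show a g (algebraMap R B r₀) = algebraMap R B r₀ from (galRestrict R K E B g).commutes r₀] at h2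
    have h3 := Ideal.sub_mem _ h2 h1
    rw [sub_sub_sub_cancel_right] at h3
    rw [← residue_eq_zero_iff] at h3 ⊢
    rw [map_sub, map_pow, map_pow, ← sub_pow_expChar_pow (x := residue B (a g b))] at h3
    rw [map_sub]
    exact eq_zero_of_pow_eq_zero h3
  let ρu : Eˣ := Units.mk0 ρ hρ0
  have hroot : ∀ g : E ≃ₐ[K] E, (g ρ / ρ) ^ r = 1 := fun g => by
    rw [div_pow, ← map_pow, hρ, g.commutes, div_self]
    rw [← hρ]
    exact pow_ne_zero _ hρ0
  have hζE := (hζ.map_of_injective (IsFractionRing.injective R K)).map_of_injective (algebraMap K E).injective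
  have hfix : ∀ g g' : E ≃ₐ[K] E, g (g' ρ / ρ) = g' ρ / ρ := fun g g' => by
    obtain ⟨i, -, hi⟩ := hζE.eq_pow_of_pow_eq_one (hroot g')
    rw [← hi, map_pow, g.commutes]
  let χ : (E ≃ₐ[K] E) →* Eˣ := MonoidHom.mk' (fun g => Units.map g.toRingEquiv.toRingHom.toMonoidHom ρu / ρu)
    fun g g' => Units.ext (by
      simp only [Units.val_div_eq_div_val, Units.coe_map, Units.val_mul]
      show g (g' ρ) / ρ = g ρ / ρ * (g' ρ / ρ)
      conv_lhs => rw [show g' ρ = g' ρ / ρ * ρ from (div_mul_cancel₀ _ hρ0).symm, map_mul, hfix]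
      ring)
  have hval : ∀ g, (χ g : E) = g ρ / ρ := fun g => by
    simp only [χ, MonoidHom.mk'_apply, Units.val_div_eq_div_val]
    rfl
  refine exists_pow_mul_pow a ha hres r hrB χ (fun g => Units.ext (by simpa [hval] using hroot g)) (g₁ := g₁) ?_
    (Units.ext (by rw [hval, hh, div_self hρ0]; rfl))
  rw [← orderOf_units, hval, hg₁, mul_div_assoc, div_self hρ0, mul_one]
  exact hζE.eq_orderOf.symm

variable {Ω : Type u} [Field Ω] [Algebra K Ω] [IsGalois K Ω]

/-- Automorphisms fixing a root of a uniformizer are products of two `r`-th powers. -/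
theorem exists_pow_mul_pow_absGalois {r : ℕ} [NeZero r] (hr : IsUnit (r : ResidueField R)) {ζ : R}
    (hζ : IsPrimitiveRoot ζ r) {ρ : Ω} (hρ0 : ρ ≠ 0) {c : K} (hρ : ρ ^ r = algebraMap K Ω c) {g₁ : Ω ≃ₐ[K] Ω}
    (hg₁ : g₁ ρ = algebraMap K Ω (algebraMap R K ζ) * ρ)
    {h : Ω ≃ₐ[K] Ω} (hh : h ρ = ρ) : ∃ x y : Ω ≃ₐ[K] Ω, x ^ r * y ^ r = h := by
  let P : Set (Ω ≃ₐ[K] Ω) := Set.range fun xy : (Ω ≃ₐ[K] Ω) × (Ω ≃ₐ[K] Ω) => xy.1 ^ r * xy.2 ^ r
  have hP : IsClosed P := (isCompact_range (by fun_prop)).isClosed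
  suffices h ∈ closure P by
    rw [hP.closure_eq] at this
    obtain ⟨⟨x, y⟩, hxy⟩ := this
    exact ⟨x, y, hxy⟩
  rw [mem_closure_iff_nhds]
  intro U hU
  have h1 : (h * ·) ⁻¹' U ∈ nhds (1 : Ω ≃ₐ[K] Ω) :=
    (continuous_const_mul h).continuousAt.preimage_mem_nhds (by rwa [mul_one])
  obtain ⟨E₀, hE₀fin, hE₀⟩ := (krullTopology_mem_nhds_one_iff K Ω _).1 h1
  haveI := hE₀fin
  haveI : FiniteDimensional K (IntermediateField.adjoin K {ρ}) :=
    IntermediateField.adjoin.finiteDimensional (Algebra.IsIntegral.isIntegral ρ)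
  let F := E₀ ⊔ IntermediateField.adjoin K {ρ}
  let E := IntermediateField.normalClosure K F Ω
  haveI : FiniteDimensional K E := normalClosure.is_finiteDimensional K F Ω
  haveI : Normal K E := normalClosure.normal K F Ω
  haveI : IsGalois K E := ⟨⟩
  have hρE : ρ ∈ E := F.le_normalClosure ((le_sup_right : _ ≤ F) (IntermediateField.mem_adjoin_simple_self K ρ))
  let res := AlgEquiv.restrictNormalHom (F := K) (K₁ := Ω) E
  have hres : ∀ (g : Ω ≃ₐ[K] Ω) (x : E), ((res g x : E) : Ω) = g x := fun g x => AlgEquiv.restrictNormal_commutes g E x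
  obtain ⟨x', y', hxy⟩ := exists_pow_mul_pow_of_galois (R := R) (E := E) hr hζ (ρ := ⟨ρ, hρE⟩)
    (fun h0 => hρ0 (congrArg Subtype.val h0)) (c := c) (Subtype.ext hρ) (g₁ := res g₁)
    (Subtype.ext ((hres g₁ _).trans hg₁)) (h := res h) (Subtype.ext ((hres h _).trans hh))
  obtain ⟨x, rfl⟩ := AlgEquiv.restrictNormalHom_surjective Ω x'
  obtain ⟨y, rfl⟩ := AlgEquiv.restrictNormalHom_surjective Ω y'
  refine ⟨x ^ r * y ^ r, ?_, ⟨(x, y), rfl⟩⟩
  have hmem : h⁻¹ * (x ^ r * y ^ r) ∈ E₀.fixingSubgroup := by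
    rw [IntermediateField.mem_fixingSubgroup_iff]
    intro z hz
    have e : res (h⁻¹ * (x ^ r * y ^ r)) = 1 := by
      rw [map_mul, map_mul, map_inv, map_pow, map_pow, ← hxy, inv_mul_cancel]
    have hzE : z ∈ E := F.le_normalClosure ((le_sup_left : _ ≤ F) hz)
    have := hres (h⁻¹ * (x ^ r * y ^ r)) ⟨z, hzE⟩
    rw [e] at this
    exact this.symm
  have := hE₀ hmem
  rwa [Set.mem_preimage, mul_inv_cancel_left] at this

end Groth.Agent.H26Tame
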