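import Mathlib

/-!
# Tame inertia of a discrete valuation ring
-/

set_option autoImplicit false

universe u v

open IsLocalRing

namespace Groth.Agent.H26Tame

variable {B : Type u} [CommRing B] [IsDomain B] [IsDiscreteValuationRing B]

/-- An automorphism of order prime to the residue characteristic, trivial on every graded piece, is trivial. -/
theorem eq_id_of_pow_eq {σ : B ≃+* B} (hres : ∀ b, σ b - b ∈ maximalIdeal B) {ϖ : B} (hϖ : Irreducible ϖ)
    {u : B} (hu : σ ϖ = ϖ * u) (hu1 : u - 1 ∈ maximalIdeal B) {l : ℕ} (hl : IsUnit (l : B))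
    (hσ : ∀ b, σ^[l] b = b) (x : B) : σ x = x := by
  have hm : ∀ i b, b ∈ maximalIdeal B ^ i ↔ ϖ ^ i ∣ b := fun i b => by
    rw [hϖ.maximalIdeal_eq, Ideal.span_singleton_pow, Ideal.mem_span_singleton]
  have hσm : ∀ i b, b ∈ maximalIdeal B ^ i → σ b ∈ maximalIdeal B ^ i := fun i b hb => by
    obtain ⟨c, rfl⟩ := (hm i b).1 hb
    rw [map_mul, map_pow, hu, mul_pow]
    exact (hm i _).2 ⟨u ^ i * σ c, mul_assoc _ _ _⟩
  have hT : ∀ i b, b ∈ maximalIdeal B ^ i → σ b - b ∈ maximalIdeal B ^ (i + 1) := fun i b hb => by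
    obtain ⟨c, rfl⟩ := (hm i b).1 hb
    rw [map_mul, map_pow, hu, mul_pow]
    have h1 : u ^ i - 1 ∈ maximalIdeal B := by
      obtain ⟨w, hw⟩ := sub_one_dvd_pow_sub_one u i
      rw [hw]; exact Ideal.mul_mem_right _ _ hu1
    have h2 : u ^ i * σ c - c ∈ maximalIdeal B := by
      have := Ideal.add_mem _ (Ideal.mul_mem_right (σ c) _ h1) (hres c)
      convert this using 1; ring
    rw [show ϖ ^ i * u ^ i * σ c - ϖ ^ i * c = ϖ ^ i * (u ^ i * σ c - c) by ring, pow_succ]
    exact Ideal.mul_mem_mul ((hm i _).2 dvd_rfl) h2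
  by_contra hne
  have hy : σ x - x ≠ 0 := sub_ne_zero.2 hne
  obtain ⟨i, c, hc⟩ := IsDiscreteValuationRing.eq_unit_mul_pow_irreducible hy hϖ
  have hyi : σ x - x ∈ maximalIdeal B ^ i := (hm i _).2 ⟨c, by rw [hc, mul_comm]⟩
  have hind : ∀ j : ℕ, σ^[j] x - x - (j : B) * (σ x - x) ∈ maximalIdeal B ^ (i + 1) := by
    intro j
    induction j with
    | zero => simp
    | succ j ih =>
      have := Ideal.add_mem _ (hσm _ _ ih) (Ideal.mul_mem_left _ (j : B) (hT i _ hyi))
      convert this using 1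
      rw [Function.iterate_succ_apply', map_sub, map_sub, map_mul, map_natCast]
      push_cast
      ring
  have h := hind l
  rw [hσ, sub_self, zero_sub, neg_mem_iff, Ideal.unit_mul_mem_iff_mem _ hl, hm, hc, pow_succ] at h
  obtain ⟨d, hd⟩ := h
  refine hϖ.not_isUnit (isUnit_of_mul_isUnit_left (y := d) ?_)
  have h3 : ϖ * d = (c : B) :=
    mul_left_cancel₀ (pow_ne_zero i hϖ.ne_zero) (by rw [← mul_assoc, ← hd, mul_comm])
  rw [h3]
  exact c.isUnit

/-- In a finite group of automorphisms trivial on the residue field, a character of exponent `r` prime to the residue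
characteristic with full image has the `r`-th powers as its kernel. -/
theorem exists_pow_mul_pow {G : Type v} [Group G] [Finite G] (a : G →* (B ≃+* B)) (ha : Function.Injective a)
    (hres : ∀ g b, a g b - b ∈ maximalIdeal B) (r : ℕ) (hr : IsUnit (r : B))
    {M : Type*} [CommGroup M] (χ : G →* M) (hχ : ∀ g, χ g ^ r = 1) {g₁ : G} (hg₁ : orderOf (χ g₁) = r)
    {h : G} (hh : χ h = 1) : ∃ x y : G, x ^ r * y ^ r = h := by
  obtain ⟨ϖ, hϖ⟩ := IsDiscreteValuationRing.exists_irreducible B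
  have hex : ∀ g, ∃ u : Bˣ, a g ϖ = ϖ * u := fun g =>
    have hg : Irreducible (a g ϖ) := (MulEquiv.irreducible_iff (a g)).2 hϖ
    let ⟨u, hu⟩ := IsDiscreteValuationRing.associated_of_irreducible B hϖ hg
    ⟨u, hu.symm⟩
  choose uu huu using hex
  have hmul : ∀ g g', residue B (uu (g * g') : B) = residue B (uu g : B) * residue B (uu g' : B) := fun g g' => by
    have e : (uu (g * g') : B) = uu g * a g (uu g') := by
      refine mul_left_cancel₀ hϖ.ne_zero ?_
      rw [← huu, map_mul, RingAut.mul_apply, huu, map_mul, huu, mul_assoc]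
    rw [e, map_mul]
    congr 1
    rw [← sub_eq_zero, ← map_sub, residue_eq_zero_iff]
    exact hres g _
  let ψ : G →* (ResidueField B)ˣ := MonoidHom.mk' (fun g => Units.map (residue B).toMonoidHom (uu g))
    fun g g' => Units.ext (by simpa using hmul g g')
  have hW : (Nat.card ψ.ker).Coprime r := by
    by_contra hc
    obtain ⟨l, hl, hlc, hlr⟩ := Nat.Prime.not_coprime_iff_dvd.1 hc
    haveI : Fact l.Prime := ⟨hl⟩
    obtain ⟨w, hw⟩ := exists_prime_orderOf_dvd_card' l hlc
    have hlu : IsUnit (l : B) := isUnit_of_dvd_unit (Nat.cast_dvd_cast hlr) hr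
    have hwl : (a w.1) ^ l = 1 := by
      rw [← map_pow, ← Subgroup.coe_pow, ← hw, pow_orderOf_eq_one, Subgroup.coe_one, map_one]
    have hiter : ∀ (n : ℕ) (b : B), (a w.1)^[n] b = ((a w.1) ^ n) b := by
      intro n
      induction n with
      | zero => intro b; rfl
      | succ n ih => intro b; rw [Function.iterate_succ_apply, pow_succ, RingAut.mul_apply, ih]
    have h1 : (uu w.1 : B) - 1 ∈ maximalIdeal B := by
      have := congrArg (Units.val) w.2
      rw [← residue_eq_zero_iff, map_sub, map_one, sub_eq_zero]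
      simpa [ψ] using this
    have hone : w = 1 := Subtype.ext (ha (by
      rw [Subgroup.coe_one, map_one]
      exact RingEquiv.ext fun x => eq_id_of_pow_eq (hres w.1) hϖ (huu w.1) h1 hlu
        (fun b => by rw [hiter, hwl]; rfl) x))
    rw [hone, orderOf_one] at hw
    exact hl.one_lt.ne hw
  have hWpow : ∀ w ∈ ψ.ker, ∃ v, v ^ r = w := fun w hw =>
    ⟨((powCoprime hW).symm ⟨w, hw⟩).1, by
      have := congrArg Subtype.val ((powCoprime hW).apply_symm_apply ⟨w, hw⟩)
      simpa using this⟩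
  have hkill : ∀ w ∈ ψ.ker, χ w = 1 := fun w hw => by
    obtain ⟨v, rfl⟩ := hWpow w hw; rw [map_pow, hχ]
  haveI : Finite ψ.range := Finite.of_surjective ψ.rangeRestrict ψ.rangeRestrict_surjective
  haveI : IsCyclic ψ.range := isCyclic_subgroup_units ψ.range
  obtain ⟨⟨c, g₀, rfl⟩, hc⟩ := IsCyclic.exists_generator (α := ψ.range)
  have hdecomp : ∀ g, ∃ (j : ℤ) (w : G), w ∈ ψ.ker ∧ g = g₀ ^ j * w := fun g => by
    obtain ⟨j, hj⟩ := hc ⟨ψ g, g, rfl⟩
    refine ⟨j, (g₀ ^ j)⁻¹ * g, ?_, by group⟩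
    have : ψ g₀ ^ j = ψ g := congrArg Subtype.val hj
    rw [MonoidHom.mem_ker, map_mul, map_inv, map_zpow, this, inv_mul_cancel]
  obtain ⟨j₁, w₁, hw₁, e₁⟩ := hdecomp g₁
  have hord : orderOf (χ g₀) = r := by
    refine Nat.dvd_antisymm (orderOf_dvd_of_pow_eq_one (hχ g₀)) ?_
    rw [← hg₁, e₁, map_mul, hkill w₁ hw₁, mul_one, map_zpow]
    refine orderOf_dvd_of_pow_eq_one ?_
    rw [← zpow_natCast, ← zpow_mul, mul_comm, zpow_mul, zpow_natCast, pow_orderOf_eq_one, one_zpow]
  obtain ⟨j, w, hw, rfl⟩ := hdecomp h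
  rw [map_mul, hkill w hw, mul_one, map_zpow, ← orderOf_dvd_iff_zpow_eq_one, hord] at hh
  obtain ⟨k, rfl⟩ := hh
  obtain ⟨v, rfl⟩ := hWpow w hw
  exact ⟨g₀ ^ k, v, by rw [← zpow_natCast (g₀ ^ k), ← zpow_mul, mul_comm k]⟩

end Groth.Agent.H26Tame
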